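import Mathlib
import Groth.Prelude.Def_Curves

/-!
# C_i fields

Reusable lemmas on `Curves.IsCi` (systems of forms) and `Curves.IsCr` (single forms):
algebraically closed fields are C_0, C_i passes to algebraic extensions, `K(T)` is C_{i+1}.
-/

namespace Groth.CiFields

open MvPolynomial

universe u v w

/-- `IsCi` with arbitrary finite index types for the forms and the variables. -/
theorem exists_zero_of_isCi {K : Type*} [Field K] {i : ℕ} (hK : Curves.IsCi K i)
    {ρ σ : Type*} [Fintype ρ] [Fintype σ] (f : ρ → MvPolynomial σ K) (d : ρ → ℕ)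
    (hf : ∀ r, (f r).IsHomogeneous (d r)) (hd : ∀ r, 0 < d r)
    (hlt : ∑ r, d r ^ i < Fintype.card σ) :
    ∃ a : σ → K, a ≠ 0 ∧ ∀ r, eval a (f r) = 0 := by
  obtain ⟨a, ha, h⟩ := hK (Fintype.card ρ) (Fintype.card σ)
    (fun j => rename (Fintype.equivFin σ) (f ((Fintype.equivFin ρ).symm j)))
    (fun j => d ((Fintype.equivFin ρ).symm j))
    (fun j => (hf _).rename_isHomogeneous) (fun j => hd _)
    (by rwa [Equiv.sum_comp (Fintype.equivFin ρ).symm (fun r => d r ^ i)])
  refine ⟨a ∘ Fintype.equivFin σ, fun h0 => ha ?_, fun r => ?_⟩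
  · funext j
    have := congrFun h0 ((Fintype.equivFin σ).symm j)
    simpa using this
  · have := h (Fintype.equivFin ρ r)
    simpa [eval_rename] using this

theorem exists_zero_of_isCr {K : Type*} [Field K] {i : ℕ} (hK : Curves.IsCr K i)
    {σ : Type*} [Fintype σ] (f : MvPolynomial σ K) (d : ℕ)
    (hf : f.IsHomogeneous d) (hd : 0 < d)
    (hlt : d ^ i < Fintype.card σ) :
    ∃ a : σ → K, a ≠ 0 ∧ eval a f = 0 := by
  obtain ⟨a, ha, h⟩ := hK (Fintype.card σ) d (rename (Fintype.equivFin σ) f)
    hf.rename_isHomogeneous hd hlt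
  refine ⟨a ∘ Fintype.equivFin σ, fun h0 => ha ?_, ?_⟩
  · funext j
    have := congrFun h0 ((Fintype.equivFin σ).symm j)
    simpa using this
  · simpa [eval_rename] using h

theorem isCr_of_isCi {K : Type*} [Field K] {i : ℕ} (hK : Curves.IsCi K i) : Curves.IsCr K i := by
  intro n d f hf hd hlt
  obtain ⟨a, ha, h⟩ := exists_zero_of_isCi hK (fun _ : Unit => f) (fun _ => d) (fun _ => hf)
    (fun _ => hd) (by simpa using hlt)
  exact ⟨a, ha, h ()⟩

section CoeffFun

variable {K : Type*} [CommRing K] {L : Type*} [CommRing L] [Algebra K L] {σ : Type*}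

/-- Apply a `K`-linear functional to every coefficient. -/
noncomputable def coeffFun (lam : L →ₗ[K] K) (g : MvPolynomial σ L) : MvPolynomial σ K :=
  ∑ m ∈ g.support, monomial m (lam (g.coeff m))

theorem coeffFun_isHomogeneous (lam : L →ₗ[K] K) {g : MvPolynomial σ L} {d : ℕ}
    (hg : g.IsHomogeneous d) : (coeffFun lam g).IsHomogeneous d := by
  refine IsHomogeneous.sum _ _ _ fun m hm => isHomogeneous_monomial _ ?_
  rw [Finsupp.degree_eq_weight_one]
  exact hg (mem_support_iff.mp hm)

theorem eval_coeffFun [Fintype σ] (lam : L →ₗ[K] K) (g : MvPolynomial σ L) (y : σ → K) :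
    eval y (coeffFun lam g) = lam (eval (fun i => algebraMap K L (y i)) g) := by
  rw [coeffFun, map_sum, eval_eq' _ g, map_sum]
  refine Finset.sum_congr rfl fun m _ => ?_
  rw [eval_monomial]
  simp only [← map_pow, ← map_prod]
  rw [mul_comm (g.coeff m), ← Algebra.smul_def, map_smul, smul_eq_mul, mul_comm]
  congr 1
  exact Finsupp.prod_fintype _ _ (fun _ => pow_zero _)

variable {β : Type*} [Fintype β]

/-- Substitute `x_j = ∑_b y_(j,b) c_b`. -/
noncomputable def expand (c : β → L) (f : MvPolynomial σ L) : MvPolynomial (σ × β) L :=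
  eval₂ C (fun j => ∑ b, C (c b) * X (j, b)) f

theorem expand_isHomogeneous (c : β → L) {f : MvPolynomial σ L} {d : ℕ}
    (hf : f.IsHomogeneous d) : (expand c f).IsHomogeneous d := by
  have := hf.eval₂ (n := 1) C (fun j => ∑ b, C (c b) * X (j, b)) (fun r => isHomogeneous_C _ r)
    (fun j => IsHomogeneous.sum _ _ _ fun b _ => isHomogeneous_C_mul_X _ _)
  rwa [one_mul] at this

theorem eval_expand (c : β → L) (f : MvPolynomial σ L) (y : σ × β → K) :
    eval (fun p => algebraMap K L (y p)) (expand c f) =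
      eval (fun j => ∑ b, y (j, b) • c b) f := by
  have h : (eval (fun p => algebraMap K L (y p))).comp
      (eval₂Hom C (fun j => ∑ b, C (c b) * X (j, b))) =
      eval (fun j => ∑ b, y (j, b) • c b) := by
    apply ringHom_ext
    · intro r; simp
    · intro j; simp [Algebra.smul_def, mul_comm]
  exact RingHom.congr_fun h f

theorem combination_ne_zero {c : β → L} (hc : LinearIndependent K c) {y : σ × β → K}
    (hy : y ≠ 0) : (fun j => ∑ b, y (j, b) • c b) ≠ 0 := by
  intro h
  refine hy (funext fun ⟨j, b⟩ => ?_)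
  exact Fintype.linearIndependent_iff.mp hc (fun b => y (j, b)) (congrFun h j) b

end CoeffFun

section Algebraic

variable {K : Type*} [Field K] {L : Type*} [Field L] [Algebra K L]

theorem isCi_of_finite [FiniteDimensional K L] {i : ℕ} (hK : Curves.IsCi K i) :
    Curves.IsCi L i := by
  intro r n f d hf hd hlt
  have B := Module.finBasis K L
  have hm : 0 < Module.finrank K L := Module.finrank_pos
  obtain ⟨y, hy, h⟩ := exists_zero_of_isCi hK
    (ρ := Fin r × Fin (Module.finrank K L)) (σ := Fin n × Fin (Module.finrank K L))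
    (fun p => coeffFun (B.coord p.2) (expand B (f p.1))) (fun p => d p.1)
    (fun p => coeffFun_isHomogeneous _ (expand_isHomogeneous _ (hf p.1))) (fun p => hd p.1)
    (by
      rw [Fintype.sum_prod_type]
      simp only [Finset.sum_const, Finset.card_univ, Fintype.card_fin, smul_eq_mul,
        Fintype.card_prod, ← Finset.mul_sum]
      rw [mul_comm n]
      exact Nat.mul_lt_mul_of_pos_left hlt hm)
  refine ⟨_, combination_ne_zero B.linearIndependent hy, fun ρ => ?_⟩
  apply B.repr.injective
  ext b
  have := h (ρ, b)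
  rw [eval_coeffFun, eval_expand] at this
  simpa using this

theorem isCr_one_of_finite [FiniteDimensional K L] (hK : Curves.IsCr K 1) : Curves.IsCr L 1 := by
  intro n d f hf hd hlt
  classical
  rw [pow_one] at hlt
  have B := Module.finBasis K L
  have hm : 0 < Module.finrank K L := Module.finrank_pos
  let M : Matrix (Fin (Module.finrank K L)) (Fin (Module.finrank K L))
      (MvPolynomial (Fin n × Fin (Module.finrank K L)) K) :=
    Matrix.of fun a b => coeffFun ((B.coord a).comp (LinearMap.mulRight K (B b))) (expand B f)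
  have hM : M.det.IsHomogeneous (d * Module.finrank K L) := by
    rw [Matrix.det_apply]
    refine IsHomogeneous.sum _ _ _ fun s _ => ?_
    rw [Units.smul_def, zsmul_eq_mul,
      ← map_intCast (C : K →+* MvPolynomial (Fin n × Fin (Module.finrank K L)) K)]
    refine IsHomogeneous.C_mul ?_ _
    have := IsHomogeneous.prod Finset.univ (fun a => M (s a) a) (fun _ => d)
      (fun a _ => coeffFun_isHomogeneous _ (expand_isHomogeneous _ hf))
    simpa [mul_comm] using this
  obtain ⟨y, hy, h⟩ := exists_zero_of_isCr hK M.det (d * Module.finrank K L) hM (by positivity)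
    (by simpa using Nat.mul_lt_mul_of_pos_right hlt hm)
  refine ⟨_, combination_ne_zero B.linearIndependent hy, ?_⟩
  rw [← Algebra.norm_eq_zero_iff (R := K), Algebra.norm_eq_matrix_det B, ← h,
    RingHom.map_det]
  congr 1
  ext a b
  rw [Algebra.leftMulMatrix_eq_repr_mul, RingHom.mapMatrix_apply, Matrix.map_apply]
  simp only [M, Matrix.of_apply]
  rw [eval_coeffFun, eval_expand]
  simp

theorem isCi_of_isAlgebraic [Algebra.IsAlgebraic K L] {i : ℕ} (hK : Curves.IsCi K i) :
    Curves.IsCi L i := by
  classical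
  intro r n f d hf hd hlt
  let S : Set L := ↑(Finset.univ.biUnion fun ρ => (f ρ).support.image (fun m => (f ρ).coeff m))
  let E := IntermediateField.adjoin K S
  have : Finite S := (Finset.finite_toSet _).to_subtype
  have : FiniteDimensional K E := IntermediateField.finiteDimensional_adjoin fun x _ =>
    (Algebra.IsAlgebraic.isAlgebraic x).isIntegral
  have hmem : ∀ ρ, f ρ ∈ Set.range (MvPolynomial.map (algebraMap E L)) := fun ρ => by
    rw [mem_range_map_iff_coeffs_subset]
    intro x hx
    obtain ⟨m, hm, rfl⟩ := mem_coeffs_iff.mp hx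
    exact ⟨⟨_, IntermediateField.subset_adjoin K S (Finset.mem_coe.mpr (Finset.mem_biUnion.mpr
      ⟨ρ, Finset.mem_univ _, Finset.mem_image.mpr ⟨m, hm, rfl⟩⟩))⟩, rfl⟩
  choose g hg using hmem
  have hinj : Function.Injective (algebraMap E L) := (algebraMap E L).injective
  obtain ⟨a, ha, h⟩ := (isCi_of_finite (L := E) hK) r n g d
    (fun ρ => IsHomogeneous.of_map hinj (hg ρ ▸ hf ρ)) hd hlt
  refine ⟨algebraMap E L ∘ a, fun h0 => ha (funext fun j => hinj ?_), fun ρ => ?_⟩
  · simpa using congrFun h0 j
  · rw [← hg ρ, eval_map, ← map_zero (algebraMap E L), ← h ρ]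
    exact (eval₂_comp _ a (g ρ)).symm

/-- Transfer along a field map with algebraic target. -/
theorem isCi_of_ringEquiv {i : ℕ} {F : Type*} [Field F] (e : K ≃+* F) (hK : Curves.IsCi K i) :
    Curves.IsCi F i := by
  intro r n f d hf hd hlt
  obtain ⟨a, ha, h⟩ := hK r n (fun ρ => MvPolynomial.map e.symm.toRingHom (f ρ)) d
    (fun ρ => (hf ρ).map _) hd hlt
  refine ⟨e ∘ a, fun h0 => ha (funext fun j => e.injective ?_), fun ρ => ?_⟩
  · simpa using congrFun h0 j
  · have := congrArg e (h ρ)
    rw [eval_map, map_zero] at this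
    change e.toRingHom _ = _ at this
    rw [eval₂_comp_left, RingEquiv.toRingHom_comp_symm_toRingHom, eval₂_id] at this
    exact this

end Algebraic

section RatFunc

theorem natDegree_eval_le {K : Type*} [Field K] {σ : Type*} [Fintype σ]
    (f : MvPolynomial σ (Polynomial K)) {d c s : ℕ} (hf : f.IsHomogeneous d)
    (hc : ∀ m ∈ f.support, (f.coeff m).natDegree ≤ c)
    (x : σ → Polynomial K) (hx : ∀ j, (x j).natDegree ≤ s) :
    (eval x f).natDegree ≤ d * s + c := by
  rw [eval_eq']
  refine Polynomial.natDegree_sum_le_of_forall_le _ _ fun m hm => ?_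
  refine Polynomial.natDegree_mul_le.trans ?_
  rw [add_comm (d * s) c]
  refine add_le_add (hc m hm) ((Polynomial.natDegree_prod_le _ _).trans ?_)
  calc ∑ j, (x j ^ m j).natDegree ≤ ∑ j, m j * s := by
        refine Finset.sum_le_sum fun j _ => Polynomial.natDegree_pow_le.trans ?_
        exact Nat.mul_le_mul_left _ (hx j)
    _ = d * s := by
        rw [← Finset.sum_mul, ← hf (mem_support_iff.mp hm),
          show (Finsupp.weight (1 : σ → ℕ)) m = m.degree from
            (DFunLike.congr_fun Finsupp.degree_eq_weight_one m).symm,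
          Finsupp.degree_eq_sum]

variable {K : Type*} [Field K]

theorem exists_zero_polynomial {i : ℕ} (hK : Curves.IsCi K i) {r n : ℕ}
    (f : Fin r → MvPolynomial (Fin n) (Polynomial K)) (d : Fin r → ℕ)
    (hf : ∀ ρ, (f ρ).IsHomogeneous (d ρ)) (hd : ∀ ρ, 0 < d ρ)
    (hlt : ∑ ρ, d ρ ^ (i + 1) < n) :
    ∃ a : Fin n → Polynomial K, a ≠ 0 ∧ ∀ ρ, eval a (f ρ) = 0 := by
  classical
  let c : ℕ := Finset.univ.sup fun ρ => (f ρ).support.sup fun m => ((f ρ).coeff m).natDegree
  have hc : ∀ ρ, ∀ m ∈ (f ρ).support, ((f ρ).coeff m).natDegree ≤ c := fun ρ m hm =>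
    (Finset.le_sup (f := fun m => ((f ρ).coeff m).natDegree) hm).trans
      (Finset.le_sup (f := fun ρ => (f ρ).support.sup fun m => ((f ρ).coeff m).natDegree)
        (Finset.mem_univ ρ))
  let s : ℕ := ∑ ρ, (c + 1) * d ρ ^ i
  let cb : Fin (s + 1) → Polynomial K := fun b => Polynomial.X ^ (b : ℕ)
  have hcb : LinearIndependent K cb := by
    have h0 : LinearIndependent K fun k : ℕ => (Polynomial.X : Polynomial K) ^ k := by
      have := (Polynomial.basisMonomials K).linearIndependent
      rwa [Polynomial.coe_basisMonomials,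
        _root_.funext fun k => Polynomial.monomial_one_right_eq_X_pow k] at this
    exact h0.comp _ Fin.val_injective
  obtain ⟨y, hy, h⟩ := exists_zero_of_isCi hK
    (ρ := Σ ρ : Fin r, Fin (d ρ * s + c + 1)) (σ := Fin n × Fin (s + 1))
    (fun p => coeffFun (Polynomial.lcoeff K (p.2 : ℕ)) (expand cb (f p.1))) (fun p => d p.1)
    (fun p => coeffFun_isHomogeneous _ (expand_isHomogeneous _ (hf p.1))) (fun p => hd p.1)
    (by
      rw [Fintype.sum_sigma]
      simp only [Finset.sum_const, Finset.card_univ, Fintype.card_fin, smul_eq_mul,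
        Fintype.card_prod]
      calc ∑ ρ, (d ρ * s + c + 1) * d ρ ^ i
          = ∑ ρ, (s * d ρ ^ (i + 1) + (c + 1) * d ρ ^ i) :=
            Finset.sum_congr rfl fun ρ _ => by ring
        _ = s * (∑ ρ, d ρ ^ (i + 1)) + s := by rw [Finset.sum_add_distrib, Finset.mul_sum]
        _ < n * (s + 1) := by
          have h1 : s * ((∑ ρ, d ρ ^ (i + 1)) + 1) ≤ s * n := Nat.mul_le_mul_left s hlt
          have h2 : 0 < n := lt_of_le_of_lt (Nat.zero_le _) hlt
          rw [Nat.mul_add, mul_one] at h1
          rw [Nat.mul_add, mul_one, mul_comm n s]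
          omega)
  refine ⟨_, combination_ne_zero hcb hy, fun ρ => ?_⟩
  have hdeg : (eval (fun j => ∑ b, y (j, b) • cb b) (f ρ)).natDegree ≤ d ρ * s + c :=
    natDegree_eval_le (f ρ) (hf ρ) (hc ρ) _ fun j =>
      Polynomial.natDegree_sum_le_of_forall_le _ _ fun b _ =>
        (Polynomial.natDegree_smul_le _ _).trans
          ((Polynomial.natDegree_X_pow_le _).trans (Nat.le_of_lt_succ b.2))
  ext k
  rw [Polynomial.coeff_zero]
  by_cases hk : k < d ρ * s + c + 1
  · have := h ⟨ρ, ⟨k, hk⟩⟩
    rwa [eval_coeffFun, eval_expand, Polynomial.lcoeff_apply] at this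
  · exact Polynomial.coeff_eq_zero_of_natDegree_lt (by omega)

theorem isCi_fractionRing_polynomial {i : ℕ} (hK : Curves.IsCi K i) {L : Type*} [Field L]
    [Algebra (Polynomial K) L] [IsFractionRing (Polynomial K) L] : Curves.IsCi L (i + 1) := by
  classical
  intro r n f d hf hd hlt
  obtain ⟨b, hb⟩ := IsLocalization.exist_integer_multiples_of_finset (nonZeroDivisors (Polynomial K))
    (Finset.univ.biUnion fun ρ => (f ρ).support.image fun m => (f ρ).coeff m)
  set φ := algebraMap (Polynomial K) L
  have hmem : ∀ ρ, C (φ b) * f ρ ∈ Set.range (MvPolynomial.map φ) := fun ρ => by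
    rw [mem_range_map_iff_coeffs_subset]
    intro x hx
    obtain ⟨m, hm, rfl⟩ := mem_coeffs_iff.mp hx
    rw [mem_support_iff, coeff_C_mul] at hm
    obtain ⟨z, hz⟩ := hb ((f ρ).coeff m) (Finset.mem_biUnion.mpr ⟨ρ, Finset.mem_univ _,
      Finset.mem_image.mpr ⟨m, mem_support_iff.mpr (right_ne_zero_of_mul hm), rfl⟩⟩)
    exact ⟨z, by rw [coeff_C_mul, hz, Algebra.smul_def]⟩
  choose g hg using hmem
  have hinj : Function.Injective φ := IsFractionRing.injective _ _
  obtain ⟨a, ha, h⟩ := exists_zero_polynomial hK g d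
    (fun ρ => IsHomogeneous.of_map hinj (hg ρ ▸ (hf ρ).C_mul _)) hd hlt
  refine ⟨φ ∘ a, fun h0 => ha (funext fun j => hinj ?_), fun ρ => ?_⟩
  · simpa using congrFun h0 j
  · have h1 : φ (b : Polynomial K) * eval (φ ∘ a) (f ρ) = 0 := by
      have h2 : eval (φ ∘ a) (MvPolynomial.map φ (g ρ)) = 0 := by
        rw [eval_map, ← map_zero φ, ← h ρ]
        exact (eval₂_comp _ a (g ρ)).symm
      simpa [hg ρ] using h2
    exact (mul_eq_zero.mp h1).resolve_left fun hb0 =>
      nonZeroDivisors.ne_zero b.2 (hinj (hb0.trans (map_zero φ).symm))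

end RatFunc

section AlgClosed

theorem height_maximal_eq {k : Type u} [Field k] [IsAlgClosed k] (n : ℕ) :
    (n : ℕ∞) ≤ (RingHom.ker (eval (0 : Fin n → k))).height := by
  classical
  set h0 := (RingHom.ker (eval (0 : Fin n → k))).height
  have key : ∀ M : Ideal (MvPolynomial (Fin n) k), M.IsMaximal → M.height = h0 := by
    intro M hM
    obtain ⟨a, rfl⟩ := (isMaximal_iff_eq_vanishingIdeal_singleton).mp hM
    let F : MvPolynomial (Fin n) k →ₐ[k] MvPolynomial (Fin n) k := aeval fun j => X j - C (a j)
    let G : MvPolynomial (Fin n) k →ₐ[k] MvPolynomial (Fin n) k := aeval fun j => X j + C (a j)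
    let e : MvPolynomial (Fin n) k ≃ₐ[k] MvPolynomial (Fin n) k :=
      AlgEquiv.ofAlgHom F G (by ext j; simp [F, G]) (by ext j; simp [F, G])
    have he : vanishingIdeal k {a} = (RingHom.ker (eval (0 : Fin n → k))).comap
        (G : MvPolynomial (Fin n) k →+* MvPolynomial (Fin n) k) := by
      ext p
      rw [mem_vanishingIdeal_singleton_iff, Ideal.mem_comap, RingHom.mem_ker]
      have : (aeval (0 : Fin n → k)).comp G = aeval a := by ext j; simp [G]
      have h2 := AlgHom.congr_fun this p
      simp only [AlgHom.comp_apply, aeval_eq_eval] at h2 ⊢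
      simp [← h2]
    rw [he]
    exact RingEquiv.height_comap e.symm.toRingEquiv _
  have hdim : ringKrullDim (MvPolynomial (Fin n) k) ≤ (h0 : WithBot ℕ∞) :=
    (ringKrullDim_le_iff_isMaximal_height_le _).mpr fun M hM => by rw [key M hM]
  rw [MvPolynomial.ringKrullDim_of_isNoetherianRing, ringKrullDim_eq_zero_of_field, zero_add,
    Nat.card_eq_fintype_card, Fintype.card_fin] at hdim
  exact_mod_cast hdim

theorem isCi_zero_of_isAlgClosed (k : Type u) [Field k] [IsAlgClosed k] : Curves.IsCi k 0 := by
  intro r n f d hf hd hlt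
  simp only [pow_zero, Finset.sum_const, Finset.card_univ, Fintype.card_fin, smul_eq_mul,
    mul_one] at hlt
  by_contra hcon
  push Not at hcon
  set m0 := RingHom.ker (eval (0 : Fin n → k))
  have hprime : m0.IsPrime := RingHom.ker_isPrime _
  have hsub : Set.range f ⊆ m0 := by
    rintro _ ⟨ρ, rfl⟩
    simp only [m0, SetLike.mem_coe, RingHom.mem_ker, eval_zero]
    exact (hf ρ).coeff_eq_zero (by simpa using (hd ρ).ne)
  have hle : Ideal.span (Set.range f) ≤ m0 := Ideal.span_le.mpr hsub
  have hrad : m0 ≤ (Ideal.span (Set.range f)).radical := by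
    intro p hp
    rw [← vanishingIdeal_zeroLocus_eq_radical (K := k), mem_vanishingIdeal_iff]
    intro x hx
    have hx0 : x = 0 := by
      by_contra hne
      obtain ⟨ρ, hρ⟩ := hcon x hne
      exact hρ (by simpa using mem_zeroLocus_iff.mp hx (f ρ) (Ideal.subset_span ⟨ρ, rfl⟩))
    subst hx0
    simpa [m0] using hp
  have hmin : m0 ∈ (Ideal.span (Set.range f)).minimalPrimes :=
    ⟨⟨hprime, hle⟩, fun q hq _ => hrad.trans ((Ideal.IsPrime.radical_le_iff hq.1).mpr hq.2)⟩
  have h1 := Ideal.height_le_card_of_mem_minimalPrimes_span (Set.finite_range f) hmin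
  have h2 : ((Set.range f).ncard : ℕ) ≤ r := by
    rw [← Set.image_univ]
    exact (Set.ncard_image_le Set.finite_univ).trans (by simp)
  have h3 := height_maximal_eq (k := k) n
  have h4 : m0.height ≤ (r : ℕ∞) := by
    refine h1.trans ?_
    exact_mod_cast h2
  exact absurd (h3.trans h4) (by exact_mod_cast not_le.mpr hlt)

end AlgClosed

section Trdeg

theorem isCi_ratFunc {K : Type*} [Field K] {i : ℕ} (hK : Curves.IsCi K i) :
    Curves.IsCi (RatFunc K) (i + 1) :=
  isCi_fractionRing_polynomial hK

theorem isCi_adjoin {k : Type*} [Field k] {E : Type*} [Field E] [Algebra k E] {m : ℕ}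
    (hk : Curves.IsCi k m) : ∀ (t : ℕ) (x : Fin t → E), AlgebraicIndependent k x →
      Curves.IsCi (IntermediateField.adjoin k (Set.range x)) (m + t)
  | 0, x, _ => by
    rw [Set.range_eq_empty, IntermediateField.adjoin_empty]
    exact isCi_of_ringEquiv (IntermediateField.botEquiv k E).symm.toRingEquiv hk
  | t + 1, x, hx => by
    have hx' : AlgebraicIndependent k (fun j : Fin t => x j.castSucc) :=
      hx.comp _ (Fin.castSucc_injective t)
    have ih := isCi_adjoin hk t _ hx'
    set S := IntermediateField.adjoin k (Set.range fun j : Fin t => x j.castSucc)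
    have htr : Transcendental S (x (Fin.last t)) := by
      rw [IntermediateField.transcendental_adjoin_iff]
      have := hx.transcendental_adjoin (s := Set.range (Fin.castSucc : Fin t → Fin (t + 1)))
        (i := Fin.last t) (by simp)
      rwa [← Set.range_comp] at this
    have h1 := isCi_of_ringEquiv
      (RatFunc.algEquivOfTranscendental (x (Fin.last t)) htr).toRingEquiv (isCi_ratFunc ih)
    have heq : (IntermediateField.adjoin S {x (Fin.last t)}).restrictScalars k =
        IntermediateField.adjoin k (Set.range x) := by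
      rw [IntermediateField.adjoin_adjoin_left]
      congr 1
      ext z
      constructor
      · rintro (⟨j, rfl⟩ | rfl) <;> exact ⟨_, rfl⟩
      · rintro ⟨j, rfl⟩
        exact Fin.lastCases (Or.inr rfl) (fun j => Or.inl ⟨j, rfl⟩) j
    rw [← heq]
    exact h1

theorem isCi_of_isTranscendenceBasis {k : Type*} [Field k] {K : Type*} [Field K] [Algebra k K]
    {m t : ℕ} {x : Fin t → K} (hx : IsTranscendenceBasis k x) (hk : Curves.IsCi k m) :
    Curves.IsCi K (m + t) :=
  haveI := hx.isAlgebraic_field
  isCi_of_isAlgebraic (isCi_adjoin hk t x hx.1)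

theorem tsen_lang (k : Type u) [Field k] [IsAlgClosed k] (K : Type u) [Field K] [Algebra k K]
    (j : ℕ) (hj : Algebra.trdeg k K = j) : Curves.IsCi K j := by
  obtain ⟨s, hs⟩ := exists_isTranscendenceBasis k K
  have hc : Cardinal.mk s = j := (hs.cardinalMk_eq_trdeg).trans hj
  have : Finite s := Cardinal.lt_aleph0_iff_finite.mp (hc ▸ Cardinal.natCast_lt_aleph0)
  let e : Fin j ≃ s := (Finite.equivFinOfCardEq (by simp [Nat.card, hc])).symm
  have := isCi_of_isTranscendenceBasis (hs.comp_equiv e) (isCi_zero_of_isAlgClosed k)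
  rwa [zero_add] at this

end Trdeg

end Groth.CiFields
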