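import Mathlib
import Groth.Prelude.Def_Curves
import Groth.Agent.CiFields.Basic
import Groth.Agent.CSA.Splitting

/-!
# The reduced norm form and triviality of the Brauer group of C_1 fields
-/

namespace Groth.CiFields

open MvPolynomial Matrix TensorProduct
open scoped Kronecker

universe u v w

theorem infinite_of_isSepClosed (L : Type*) [Field L] [IsSepClosed L] : Infinite L := by
  by_contra h
  rw [not_infinite_iff_finite] at h
  have : IsAlgClosed L := IsSepClosed.isAlgClosed_of_perfectField L
  exact not_finite L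

theorem norm_matrix {L : Type*} [Field L] {n : ℕ} (z : Matrix (Fin n) (Fin n) L) :
    Algebra.norm L z = z.det ^ n := by
  classical
  have h : Algebra.leftMulMatrix (Matrix.stdBasis L (Fin n) (Fin n)) z =
      z ⊗ₖ (1 : Matrix (Fin n) (Fin n) L) := by
    ext ⟨a, b⟩ ⟨c, d⟩
    rw [Algebra.leftMulMatrix_eq_repr_mul, Matrix.stdBasis_eq_single,
      show ∀ w : Matrix (Fin n) (Fin n) L, (Matrix.stdBasis L (Fin n) (Fin n)).repr w (a, b) = w a b
        from fun w => rfl, Matrix.kronecker_apply, Matrix.one_apply]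
    by_cases h : b = d
    · subst h; simp
    · simp [h]
  rw [Algebra.norm_eq_matrix_det (Matrix.stdBasis L (Fin n) (Fin n)), h, Matrix.det_kronecker]
  simp

/-- The reduced norm form, computed in an infinite Galois splitting field. -/
theorem exists_norm_form_of_splitting (K : Type u) [Field K] (D : Type v) [DivisionRing D]
    [Algebra K D] [FiniteDimensional K D] (L : Type w) [Field L] [Algebra K L] [IsGalois K L]
    [Infinite L] (n : ℕ) (hn : n ≠ 0) (e : L ⊗[K] D ≃ₐ[L] Matrix (Fin n) (Fin n) L) :
    ∃ (f : MvPolynomial (Fin (Module.finrank K D)) K),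
      Module.finrank K D = n ^ 2 ∧ f.IsHomogeneous n ∧
      ∀ a : Fin (Module.finrank K D) → K, a ≠ 0 → MvPolynomial.eval a f ≠ 0 := by
  classical
  have hdim : Module.finrank K D = n ^ 2 := by
    rw [← Module.finrank_baseChange (R := L), e.toLinearEquiv.finrank_eq]
    simp [Module.finrank_matrix, pow_two]
  let b := Module.finBasis K D
  let ι := Fin (Module.finrank K D)
  let bL : Module.Basis ι L (L ⊗[K] D) := Algebra.TensorProduct.basis L b
  have hbL : ∀ i, bL i = 1 ⊗ₜ b i := fun i => Algebra.TensorProduct.basis_apply b i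
  let R := MvPolynomial ι L
  let 𝕄 : Matrix (Fin n) (Fin n) R :=
    Matrix.of fun a c => ∑ i : ι, MvPolynomial.C (e (bL i) a c) * MvPolynomial.X i
  let P : R := 𝕄.det
  let N : MvPolynomial ι K := (Matrix.of fun a c => ∑ i : ι,
    MvPolynomial.C (Algebra.leftMulMatrix b (b i) a c) * MvPolynomial.X i).det
  have h𝕄 : ∀ z : ι → L, (MvPolynomial.eval z).mapMatrix 𝕄 = e (∑ i, z i • bL i) := by
    intro z
    ext a c
    simp [𝕄, Matrix.sum_apply, map_sum, mul_comm]
  have hPhom : P.IsHomogeneous n := by
    have hent : ∀ a c, (𝕄 a c).IsHomogeneous 1 := fun a c => by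
      simp only [𝕄, Matrix.of_apply]
      exact IsHomogeneous.sum _ _ _ fun i _ => isHomogeneous_C_mul_X _ _
    simp only [P, Matrix.det_apply]
    refine IsHomogeneous.sum _ _ _ fun s _ => ?_
    rw [Units.smul_def, zsmul_eq_mul, ← map_intCast (C : L →+* R)]
    refine IsHomogeneous.C_mul ?_ _
    have := IsHomogeneous.prod Finset.univ (fun a => 𝕄 (s a) a) (fun _ => 1) (fun a _ => hent _ _)
    simpa using this
  have hPz : ∀ z : ι → L, MvPolynomial.eval z P = (e (∑ i, z i • bL i)).det := fun z => by
    rw [← h𝕄 z, ← RingHom.map_det]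
  have hPN : MvPolynomial.map (algebraMap K L) N = P ^ n := by
    apply MvPolynomial.funext
    intro z
    rw [map_pow, hPz, ← norm_matrix, Algebra.norm_eq_of_algEquiv, Algebra.norm_eq_matrix_det bL,
      RingHom.map_det, RingHom.map_det]
    congr 1
    ext a c
    simp only [RingHom.mapMatrix_apply, Matrix.map_apply, Matrix.of_apply, map_sum, map_smul,
      Matrix.sum_apply, Matrix.smul_apply, smul_eq_mul, map_mul, MvPolynomial.map_X,
      MvPolynomial.map_C, MvPolynomial.eval_X, MvPolynomial.eval_C]
    refine Finset.sum_congr rfl fun i _ => ?_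
    rw [mul_comm]
    congr 1
    rw [Algebra.leftMulMatrix_eq_repr_mul, Algebra.leftMulMatrix_eq_repr_mul, hbL, hbL,
      Algebra.TensorProduct.tmul_mul_tmul, one_mul, Algebra.TensorProduct.basis_repr_tmul]
    simp [Algebra.smul_def]
  -- value at the unit
  let y1 : ι → L := fun i => bL.repr 1 i
  have hP1 : MvPolynomial.eval y1 P = 1 := by
    rw [hPz, show ∑ i, y1 i • bL i = 1 from bL.sum_repr 1, map_one, Matrix.det_one]
  have hP0 : P ≠ 0 := fun h => by rw [h, map_zero] at hP1; exact zero_ne_one hP1
  have hfix : ∀ σ : L ≃ₐ[K] L, MvPolynomial.map σ.toAlgHom.toRingHom P = P := by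
    intro σ
    set Q := MvPolynomial.map σ.toAlgHom.toRingHom P with hQ
    have hQn : Q ^ n = P ^ n := by
      rw [hQ, ← map_pow, ← hPN, MvPolynomial.map_map]
      exact congrArg (fun h => MvPolynomial.map h N) (RingHom.ext fun x => σ.commutes x)
    have hassoc : Associated P Q := by
      rw [← dvd_dvd_iff_associated]
      exact ⟨(UniqueFactorizationMonoid.pow_dvd_pow_iff_dvd hn).mp hQn.symm.dvd,
        (UniqueFactorizationMonoid.pow_dvd_pow_iff_dvd hn).mp hQn.dvd⟩
    obtain ⟨u, hu⟩ := hassoc
    obtain ⟨c, -, hc⟩ := MvPolynomial.isUnit_iff_eq_C_of_isReduced.mp u.isUnit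
    have hy1 : ∀ i, σ (y1 i) = y1 i := fun i => by
      have : bL.repr 1 i = algebraMap K L (b.repr 1 i) := by
        rw [Algebra.TensorProduct.one_def, Algebra.TensorProduct.basis_repr_tmul]
        simp [Algebra.smul_def]
      simp only [y1, this, AlgEquiv.commutes]
    have hQ1 : MvPolynomial.eval y1 Q = 1 := by
      have h := congrArg σ hP1
      rw [map_one] at h
      rw [hQ, MvPolynomial.eval_map]
      conv_rhs => rw [← h]
      have h2 := MvPolynomial.eval₂_comp_left σ.toAlgHom.toRingHom (RingHom.id L) y1 P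
      rw [MvPolynomial.eval₂_id, show (σ.toAlgHom.toRingHom ∘ y1) = y1 from _root_.funext hy1,
        RingHom.comp_id] at h2
      exact h2.symm
    rw [← hu, map_mul, hP1, one_mul, hc, MvPolynomial.eval_C] at hQ1
    rw [hc, hQ1, map_one, mul_one] at hu
    exact hu.symm
  obtain ⟨f, hf⟩ : ∃ f : MvPolynomial ι K, MvPolynomial.map (algebraMap K L) f = P := by
    rw [← Set.mem_range, mem_range_map_iff_coeffs_subset]
    intro x hx
    obtain ⟨m, -, rfl⟩ := mem_coeffs_iff.mp hx
    apply (InfiniteGalois.mem_range_algebraMap_iff_fixed (k := K) _).mpr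
    intro σ
    have := congrArg (fun q => MvPolynomial.coeff m q) (hfix σ)
    simp only [MvPolynomial.coeff_map] at this
    exact this
  refine ⟨f, hdim,
    IsHomogeneous.of_map (algebraMap K L).injective (hf ▸ hPhom), fun a ha h0 => ?_⟩
  have h1 : MvPolynomial.eval (algebraMap K L ∘ a) P = 0 := by
    rw [← hf, MvPolynomial.eval_map, ← map_zero (algebraMap K L), ← h0]
    exact (MvPolynomial.eval₂_comp _ a f).symm
  rw [hPz] at h1
  have hx : ∑ i, (algebraMap K L ∘ a) i • bL i = 1 ⊗ₜ[K] ∑ i, a i • b i := by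
    rw [TensorProduct.tmul_sum]
    refine Finset.sum_congr rfl fun i _ => ?_
    rw [hbL, Function.comp_apply, algebraMap_smul, TensorProduct.smul_tmul', TensorProduct.smul_tmul]
  have hne : ∑ i, a i • b i ≠ 0 := fun h =>
    ha (funext fun i => Fintype.linearIndependent_iff.mp b.linearIndependent a h i)
  have hu : IsUnit (e (1 ⊗ₜ[K] ∑ i, a i • b i)) :=
    ((Ne.isUnit hne).map (Algebra.TensorProduct.includeRight : D →ₐ[K] L ⊗[K] D)).map e
  rw [Matrix.isUnit_iff_isUnit_det, ← hx, h1] at hu
  exact not_isUnit_zero hu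

/-- For a division algebra of dimension `n²` there is a form of degree `n` in `n²` variables without
nontrivial zeros. -/
theorem exists_norm_form (K : Type u) [Field K] (D : Type v) [DivisionRing D] [Algebra K D]
    [Algebra.IsCentral K D] [FiniteDimensional K D] :
    ∃ (n : ℕ) (f : MvPolynomial (Fin (Module.finrank K D)) K), 0 < n ∧
      Module.finrank K D = n ^ 2 ∧ f.IsHomogeneous n ∧
      ∀ a : Fin (Module.finrank K D) → K, a ≠ 0 → MvPolynomial.eval a f ≠ 0 := by
  have : Infinite (SeparableClosure K) := infinite_of_isSepClosed _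
  obtain ⟨n, hn, ⟨e⟩⟩ := Groth.CSA.splits_separableClosure K D
  obtain ⟨f, h⟩ := exists_norm_form_of_splitting K D (SeparableClosure K) n hn e
  exact ⟨n, f, Nat.pos_of_ne_zero hn, h⟩

theorem finrank_eq_one_of_isCr_one {K : Type u} [Field K] (hK : Curves.IsCr K 1)
    (D : Type v) [DivisionRing D] [Algebra K D] [Algebra.IsCentral K D] [FiniteDimensional K D] :
    Module.finrank K D = 1 := by
  obtain ⟨n, f, hn, hdim, hf, h⟩ := exists_norm_form K D
  by_contra hne
  have h2 : n < Module.finrank K D := by
    rw [hdim, pow_two]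
    have : n ≠ 1 := by rintro rfl; exact hne (by simpa using hdim)
    exact lt_mul_self (by omega)
  obtain ⟨a, ha, h0⟩ := hK _ n f hf hn (by simpa using h2)
  exact h a ha h0

end Groth.CiFields
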